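import Groth.Agent.EulerFam.Complex
import Groth.Agent.CBC.Setup
import Groth.Agent.CBC.Fibre
import Groth.Agent.S0002
import Groth.Prelude.Def_Curv2
import Mathlib.RingTheory.Spectrum.Prime.FreeLocus

/-!
# Local constancy of the Euler characteristic in flat proper families

For a proper morphism to a locally Noetherian scheme and a coherent module flat over the base, there
is a locally constant function on the base giving the Euler characteristic of the pullback to any
field-valued point.
-/

universe u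

open CategoryTheory Limits Opposite TopologicalSpace AlgebraicGeometry Function TensorProduct

set_option linter.style.haveILetI false

namespace Groth.Agent.EulerFam

open Groth.Agent.CBC

variable {X S : Scheme.{u}} {f : X ⟶ S}

theorem exists_on_affine [IsProper f] [IsLocallyNoetherian S] {F : X.Modules} (hF : Coh.IsCoh F)
    (hfl : FlatMod.IsFlatOver f F) {V : S.Opens} (hV : IsAffineOpen V) :
    ∃ ψ : V → ℤ, IsLocallyConstant ψ ∧ ∀ (R : Type u) [Field R] (g : Spec (CommRingCat.of R) ⟶ S)
      (X' : Scheme.{u}) (p : X' ⟶ X) (q : X' ⟶ Spec (CommRingCat.of R)), IsPullback p q f g →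
      ∀ (z : Spec (CommRingCat.of R)) (hz : g.base z ∈ V),
        letI : X'.Over (Spec (CommRingCat.of R)) := ⟨q⟩
        Curv2.euler R X' ((Scheme.Modules.pullback p).obj F) = ψ ⟨g.base z, hz⟩ := by
  have := hF.1
  haveI : IsNoetherianRing Γ(S, V) := IsLocallyNoetherian.component_noetherian ⟨V, hV⟩
  obtain ⟨D⟩ := nonempty_model f hV
  have hfin : ∀ (A : Type u) [CommRing A] [IsNoetherianRing A] (Z : Scheme.{u})
      [Z.Over (Spec (CommRingCat.of A))] [IsProper (Z ↘ Spec (CommRingCat.of A))]
      (M : Z.Modules), Coh.IsCoh M → ∀ n : ℕ, Module.Finite A (Coh.HH Z M n) :=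
    fun A _ _ Z _ _ M hM n => Groth.Agent.S0002.result A Z M hM n
  let r := Nat.card D.ι
  obtain ⟨G, iG, iG', hproj, hfinG, c, hc⟩ := exists_euler_formula (D.K F)
    (fun n => D.flat_K F hV hfl n) (finite_H₀ hV D F hF hfin)
    (r := r) (fun M _ _ n hn => subsingleton_H hV D F M n hn)
  refine ⟨fun s => (Module.rankAtStalk G (hV.primeIdealOf s) : ℤ) - c, ?_, ?_⟩
  · haveI : Module.FinitePresentation Γ(S, V) G := Module.finitePresentation_of_finite _ G
    refine IsLocallyConstant.comp
      (g := fun a : ℕ => (a : ℤ) - c) (f := fun s => Module.rankAtStalk G (hV.primeIdealOf s)) ?_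
    exact Module.isLocallyConstant_rankAtStalk.comp_continuous
      (by exact (Scheme.homeoOfIso hV.isoSpec).continuous)
  intro R _ g X' p q H z hz
  letI : X'.Over (Spec (CommRingCat.of R)) := ⟨q⟩
  have hT : ⊤ ≤ g ⁻¹ᵁ V := fun w _ => by
    rw [Subsingleton.elim w z]
    exact hz
  letI : Algebra Γ(S, V) R :=
    ((g.appLE V ⊤ hT) ≫ (Scheme.ΓSpecIso (CommRingCat.of R)).hom).hom.toAlgebra
  have halg : ∀ a, g.appLE V ⊤ hT a =
      (Scheme.ΓSpecIso (CommRingCat.of R)).inv (algebraMap Γ(S, V) R a) := fun a =>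
    ((Scheme.ΓSpecIso (CommRingCat.of R)).hom_inv_id_apply (g.appLE V ⊤ hT a)).symm
  let h : ℕ → ℕ := fun i => Module.finrank R (Coh.HH X' ((Scheme.Modules.pullback p).obj F) i)
  have hh : ∀ i (w : (D.K F).Win i),
      h i = Module.finrank R (LinearMap.ker (w.u.baseChange R)) := fun i w => by
    let e : Coh.HH X' ((Scheme.Modules.pullback p).obj F) i ≃ₗ[R] LinearMap.ker (w.u.baseChange R) :=
      { ((ringEquiv g p q hV D F H hT halg i).symm.trans (w.eAlg R).toAddEquiv) with
        map_smul' := fun r x => by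
          refine Subtype.ext ?_
          obtain ⟨y, rfl⟩ := (ringEquiv g p q hV D F H hT halg i).surjective x
          change (w.eAlg R ((ringEquiv g p q hV D F H hT halg i).symm
              (Coh.toGlobal q r • ringEquiv g p q hV D F H hT halg i y))).1 =
            r • (w.eAlg R ((ringEquiv g p q hV D F H hT halg i).symm
              (ringEquiv g p q hV D F H hT halg i y))).1
          rw [← ringEquiv_smul g p q hV D F H hT halg i r y, AddEquiv.symm_apply_apply,
            AddEquiv.symm_apply_apply]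
          exact w.eAlg_smul R r y }
    exact e.finrank_eq
  have hker : RingHom.ker (algebraMap Γ(S, V) R) = (hV.primeIdealOf ⟨g.base z, hz⟩).asIdeal := by
    ext a
    have h1 : g.base z ∈ S.basicOpen a ↔ hV.primeIdealOf ⟨g.base z, hz⟩ ∈ PrimeSpectrum.basicOpen a := by
      rw [← hV.fromSpec_preimage_basicOpen]
      change _ ↔ hV.fromSpec (hV.primeIdealOf ⟨g.base z, hz⟩) ∈ S.basicOpen a
      rw [hV.fromSpec_primeIdealOf]
    have h2 : g.base z ∈ S.basicOpen a ↔
        z ∈ (Spec (CommRingCat.of R)).basicOpen (g.appLE V ⊤ hT a) := by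
      rw [Scheme.basicOpen_appLE]
      exact ⟨fun h => ⟨trivial, h⟩, fun h => h.2⟩
    rw [halg a, basicOpen_eq_of_affine] at h2
    have h2' : g.base z ∈ S.basicOpen a ↔ algebraMap Γ(S, V) R a ∉ z.asIdeal :=
      h2.trans (PrimeSpectrum.mem_basicOpen _ _)
    rw [PrimeSpectrum.mem_basicOpen] at h1
    have h3 : algebraMap Γ(S, V) R a ∉ z.asIdeal ↔ algebraMap Γ(S, V) R a ≠ 0 := by
      rw [(Ideal.eq_bot_or_top (K := R) z.asIdeal).resolve_right z.isPrime.ne_top, Submodule.mem_bot]
    rw [RingHom.mem_ker]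
    exact not_iff_not.1 (((h2'.trans h3).symm).trans h1)
  have hrank : Module.finrank R (R ⊗[Γ(S, V)] G) =
      Module.rankAtStalk G (hV.primeIdealOf ⟨g.base z, hz⟩) := by
    let z' : PrimeSpectrum R := z
    have e1 := Module.rankAtStalk_baseChange (R := Γ(S, V)) (M := G) (S := R) z'
    rw [Module.rankAtStalk_eq_finrank_of_free] at e1
    refine e1.trans ?_
    congr 1
    refine PrimeSpectrum.ext ?_
    rw [← hker]
    change z'.asIdeal.comap (algebraMap Γ(S, V) R) = _
    rw [(Ideal.eq_bot_or_top (K := R) z'.asIdeal).resolve_right z'.isPrime.ne_top]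
    rfl
  have hvan : ∀ i, r ≤ i → h i = 0 := fun i hi => by
    haveI := subsingleton_H_alg hV D F R i hi
    haveI := (ringEquiv g p q hV D F H hT halg i).toEquiv.symm.subsingleton
    exact Module.finrank_zero_of_subsingleton
  have heuler : Curv2.euler R X' ((Scheme.Modules.pullback p).obj F) =
      ∑ i ∈ Finset.range (r + 1), (-1 : ℤ) ^ i * (h i : ℤ) := by
    refine finsum_eq_sum_of_support_subset _ fun i hi => ?_
    by_contra hn
    refine hi ?_
    show (-1 : ℤ) ^ i * (h i : ℤ) = 0
    rw [hvan i (by simp at hn; omega), Nat.cast_zero, mul_zero]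
  rw [heuler, hc R h hh, hrank]

/-- The Euler characteristic of a flat proper family is locally constant on the base. -/
theorem exists_isLocallyConstant [IsProper f] [IsLocallyNoetherian S] {F : X.Modules}
    (hF : Coh.IsCoh F) (hfl : FlatMod.IsFlatOver f F) :
    ∃ φ : S → ℤ, IsLocallyConstant φ ∧ ∀ (R : Type u) [Field R] (g : Spec (CommRingCat.of R) ⟶ S)
      (X' : Scheme.{u}) (p : X' ⟶ X) (q : X' ⟶ Spec (CommRingCat.of R)), IsPullback p q f g →
      ∀ z : Spec (CommRingCat.of R),
        letI : X'.Over (Spec (CommRingCat.of R)) := ⟨q⟩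
        Curv2.euler R X' ((Scheme.Modules.pullback p).obj F) = φ (g.base z) := by
  let φ : S → ℤ := fun s => @Curv2.euler (S.residueField s) _ (f.fiber s)
    ⟨f.fiberToSpecResidueField s⟩ ((Scheme.Modules.pullback (f.fiberι s)).obj F)
  have key : ∀ {V : S.Opens} (ψ : V → ℤ), (∀ (R : Type u) [Field R] (g : Spec (CommRingCat.of R) ⟶ S)
      (X' : Scheme.{u}) (p : X' ⟶ X) (q : X' ⟶ Spec (CommRingCat.of R)), IsPullback p q f g →
      ∀ (z : Spec (CommRingCat.of R)) (hz : g.base z ∈ V),
        letI : X'.Over (Spec (CommRingCat.of R)) := ⟨q⟩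
        Curv2.euler R X' ((Scheme.Modules.pullback p).obj F) = ψ ⟨g.base z, hz⟩) →
      ∀ (s : S) (hs : s ∈ V), φ s = ψ ⟨s, hs⟩ := fun {V} ψ hψ s hs => by
    let z : Spec (S.residueField s) := Classical.arbitrary _
    have hz : (S.fromSpecResidueField s).base z = s := S.fromSpecResidueField_apply s z
    refine (hψ (S.residueField s) (S.fromSpecResidueField s) (f.fiber s) (f.fiberι s)
      (f.fiberToSpecResidueField s) (IsPullback.of_hasPullback _ _) z (by rw [hz]; exact hs)).trans ?_
    exact congrArg ψ (Subtype.ext hz)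
  refine ⟨φ, (IsLocallyConstant.iff_exists_open φ).2 fun s => ?_, fun R _ g X' p q H z => ?_⟩
  · obtain ⟨V, hV, hs, -⟩ := exists_isAffineOpen_mem_and_subset (U := (⊤ : S.Opens)) (x := s) trivial
    obtain ⟨ψ, hlc, hψ⟩ := exists_on_affine (f := f) hF hfl hV
    obtain ⟨W, hW, hsW, hWc⟩ := (IsLocallyConstant.iff_exists_open ψ).1 hlc ⟨s, hs⟩
    refine ⟨Subtype.val '' W, V.isOpen.isOpenMap_subtype_val W hW, ⟨_, hsW, rfl⟩, ?_⟩
    rintro _ ⟨⟨t, ht⟩, htW, rfl⟩
    rw [key ψ hψ t ht, key ψ hψ s hs]
    exact hWc _ htW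
  · obtain ⟨V, hV, hs, -⟩ := exists_isAffineOpen_mem_and_subset (U := (⊤ : S.Opens)) (x := g.base z) trivial
    obtain ⟨ψ, -, hψ⟩ := exists_on_affine (f := f) hF hfl hV
    rw [key ψ hψ _ hs]
    exact hψ R g X' p q H z hs

end Groth.Agent.EulerFam
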