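import Groth.Agent.EulerFam.AlgEquiv
import Groth.Agent.HilbPolyX.Ample
import Groth.Agent.PicCl.Basic
import Groth.Agent.AmpleLib.Basic

/-!
# Euler characteristics and τ-equivalence; restriction of τ-equivalence
-/

universe u

open CategoryTheory CategoryTheory.Limits AlgebraicGeometry

set_option linter.style.haveILetI false

noncomputable section

namespace Groth.Agent.EulerFam

open ProjTwist

variable {k : Type u} [Field k] {X : Scheme.{u}} [X.Over (Spec (CommRingCat.of k))]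
  [IsProper (X ↘ Spec (CommRingCat.of k))]

/-- Tensoring with a module τ-equivalent to zero preserves `χ`. -/
theorem euler_tensor_of_isTauEquivZero {L : X.Modules} (hL : PicF.IsInvertible L)
    (h : Pic13.IsTauEquivZero k X L) {F : X.Modules} (hF : Coh.IsCoh F) :
    Curv2.euler k X (CohB1.tensorMod F L) = Curv2.euler k X F := by
  obtain ⟨n, hn, halg⟩ := h
  obtain ⟨P, hP⟩ := HilbPolyX.exists_hilbPoly k hL hF
  have hmul : ∀ j : ℕ,
      Curv2.euler k X (CohB1.tensorMod F (CohB1.tensorPow L (n * j))) = Curv2.euler k X F := by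
    intro j
    induction j with
    | zero => exact EulerChar.euler_iso k (tensOne F)
    | succ j ih =>
      rw [← EulerChar.euler_iso k
        ((tensCongr (Iso.refl F) (HilbPolyX.powAdd L (n * j) n)) :
          CohB1.tensorMod F (CohB1.tensorMod (CohB1.tensorPow L (n * j)) (CohB1.tensorPow L n)) ≅
            CohB1.tensorMod F (CohB1.tensorPow L (n * (j + 1)))),
        ← EulerChar.euler_iso k (tensAssoc F (CohB1.tensorPow L (n * j)) (CohB1.tensorPow L n)),
        euler_tensor_of_isAlgEquivZero halg (F := CohB1.tensorMod F (CohB1.tensorPow L (n * j)))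
          (HilbPolyX.isCoh_twist k hL hF (n * j))]
      exact ih
  have hconst : P = Polynomial.C (Curv2.euler k X F : ℚ) := by
    refine Polynomial.eq_of_infinite_eval_eq P _ ((Set.infinite_range_of_injective
      (f := fun j : ℕ => ((n * j : ℕ) : ℚ)) fun a b hab =>
        Nat.eq_of_mul_eq_mul_left hn (Nat.cast_injective (R := ℚ) hab)).mono ?_)
    rintro _ ⟨j, rfl⟩
    simp only [Set.mem_ofPred_eq, Polynomial.eval_C]
    rw [← hP (n * j)]
    exact congrArg Int.cast (hmul j)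
  have h1 := hP 1
  rw [hconst, Polynomial.eval_C] at h1
  have e : CohB1.tensorMod F L ≅ ShStab.twist X L F 1 :=
    tensCongr (Iso.refl F) (oneTens L).symm
  rw [EulerChar.euler_iso k e]
  exact_mod_cast h1

/-- Tensoring with a module τ-equivalent to zero, powers. -/
theorem euler_pow_tensor_of_isTauEquivZero {L : X.Modules} (hL : PicF.IsInvertible L)
    (h : Pic13.IsTauEquivZero k X L) {F : X.Modules} (hF : Coh.IsCoh F) : ∀ m : ℕ,
    Curv2.euler k X (CohB1.tensorMod F (CohB1.tensorPow L m)) = Curv2.euler k X F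
  | 0 => EulerChar.euler_iso k (tensOne F)
  | m + 1 => by
    rw [← euler_pow_tensor_of_isTauEquivZero hL h hF m,
      ← euler_tensor_of_isTauEquivZero hL h (F := CohB1.tensorMod F (CohB1.tensorPow L m))
        (HilbPolyX.isCoh_twist k hL hF m)]
    exact EulerChar.euler_iso k (tensAssoc F (CohB1.tensorPow L m) L).symm

omit [X.Over (Spec (CommRingCat.of k))] [IsProper (X ↘ Spec (CommRingCat.of k))] in
theorem pullback_tensorPow {Y : Scheme.{u}} (i : Y ⟶ X) (L : X.Modules) : ∀ n : ℕ,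
    Nonempty ((Scheme.Modules.pullback i).obj (CohB1.tensorPow L n) ≅
      CohB1.tensorPow ((Scheme.Modules.pullback i).obj L) n)
  | 0 => ⟨QCoh.pullbackUnitIso i⟩
  | n + 1 => by
    obtain ⟨e⟩ := pullback_tensorPow i L n
    exact ⟨KFlat.PullTensor.pullTensorIso i (CohB1.tensorPow L n) L ≪≫
      tensCongr e (Iso.refl _)⟩

omit [IsProper (X ↘ Spec (CommRingCat.of k))] in
theorem isAlgEquivZero_pullback {Y : Scheme.{u}} [Y.Over (Spec (CommRingCat.of k))] (i : Y ⟶ X)
    (hi : i ≫ (X ↘ Spec (CommRingCat.of k)) = Y ↘ Spec (CommRingCat.of k)) {L : X.Modules}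
    (h : Pic13.IsAlgEquivZero k X L) :
    Pic13.IsAlgEquivZero k Y ((Scheme.Modules.pullback i).obj L) := by
  obtain ⟨T, q, hT, hft, hqc, M, hM, t, t₀, ht, ht₀, ⟨e⟩, ⟨e₀⟩⟩ := h
  let P : Pic13.prodK k Y q ⟶ Pic13.prodK k X q :=
    pullback.map _ _ _ _ i (𝟙 _) (𝟙 _) (by rw [Category.comp_id, hi]) (by simp)
  have sq : ∀ (s : Spec (CommRingCat.of k) ⟶ T) (hs : s ≫ q = 𝟙 _),
      Pic13.sliceAt k Y q s hs ≫ P = i ≫ Pic13.sliceAt k X q s hs := fun s hs => by
    refine pullback.hom_ext ?_ ?_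
    · simp only [Category.assoc, P, Pic13.sliceAt, pullback.map, pullback.lift_fst,
        pullback.lift_fst_assoc, Category.id_comp, Category.comp_id]
    · simp only [Category.assoc, P, Pic13.sliceAt, pullback.map, pullback.lift_snd,
        Category.comp_id]
      rw [← Category.assoc, hi]
  have iso : ∀ (s : Spec (CommRingCat.of k) ⟶ T) (hs : s ≫ q = 𝟙 _),
      Nonempty (Pic13.fibreMod k Y q s hs ((Scheme.Modules.pullback P).obj M) ≅
        (Scheme.Modules.pullback i).obj (Pic13.fibreMod k X q s hs M)) := fun s hs =>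
    ⟨(Scheme.Modules.pullbackComp _ P).app M ≪≫ (Scheme.Modules.pullbackCongr (sq s hs)).app M ≪≫
      ((Scheme.Modules.pullbackComp i _).app M).symm⟩
  obtain ⟨j⟩ := iso t ht
  obtain ⟨j₀⟩ := iso t₀ ht₀
  exact ⟨T, q, hT, hft, hqc, (Scheme.Modules.pullback P).obj M, PicCl.isInvertible_pullback P hM,
    t, t₀, ht, ht₀, ⟨j ≪≫ (Scheme.Modules.pullback i).mapIso e⟩,
    ⟨j₀ ≪≫ (Scheme.Modules.pullback i).mapIso e₀ ≪≫ QCoh.pullbackUnitIso i⟩⟩

omit [IsProper (X ↘ Spec (CommRingCat.of k))] in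
theorem isAlgEquivZero_of_iso {L L' : X.Modules} (f : L ≅ L') (h : Pic13.IsAlgEquivZero k X L) :
    Pic13.IsAlgEquivZero k X L' := by
  obtain ⟨T, q, hT, hft, hqc, M, hM, t, t₀, ht, ht₀, ⟨e⟩, e₀⟩ := h
  exact ⟨T, q, hT, hft, hqc, M, hM, t, t₀, ht, ht₀, ⟨e ≪≫ f⟩, e₀⟩

omit [IsProper (X ↘ Spec (CommRingCat.of k))] in
theorem isTauEquivZero_pullback {Y : Scheme.{u}} [Y.Over (Spec (CommRingCat.of k))] (i : Y ⟶ X)
    (hi : i ≫ (X ↘ Spec (CommRingCat.of k)) = Y ↘ Spec (CommRingCat.of k)) {L : X.Modules}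
    (h : Pic13.IsTauEquivZero k X L) :
    Pic13.IsTauEquivZero k Y ((Scheme.Modules.pullback i).obj L) := by
  obtain ⟨n, hn, halg⟩ := h
  obtain ⟨e⟩ := pullback_tensorPow i L n
  exact ⟨n, hn, isAlgEquivZero_of_iso e (isAlgEquivZero_pullback i hi halg)⟩

end Groth.Agent.EulerFam
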