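import Groth.Agent.EulerFam.Scheme
import Groth.Agent.CMReg.FieldBC
import Groth.Agent.FDesc.BaseChangeStalk
import Groth.Agent.TwistFlat.Core
import Groth.Agent.KFlat.PullTensor
import Groth.Agent.ProjTwist.Tensor
import Groth.Agent.EulerChar.Basic
import Groth.Agent.ZClosLib.CohDescent
import Groth.Agent.CohDev.TensorCoh
import Groth.Prelude.Def_Pic13

/-!
# Euler characteristics and algebraic equivalence
-/

universe u

open CategoryTheory CategoryTheory.Limits AlgebraicGeometry

set_option linter.style.haveILetI false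

noncomputable section

namespace Groth.Agent.EulerFam

variable {k : Type u} [Field k] {X : Scheme.{u}} [X.Over (Spec (CommRingCat.of k))]
  [IsProper (X ↘ Spec (CommRingCat.of k))]

omit [IsProper (X ↘ Spec (CommRingCat.of k))] in
theorem isPullback_slice {T : Scheme.{u}} (q : T ⟶ Spec (CommRingCat.of k))
    (t : Spec (CommRingCat.of k) ⟶ T) (ht : t ≫ q = 𝟙 _) :
    IsPullback (Pic13.sliceAt k X q t ht) (X ↘ Spec (CommRingCat.of k))
      (pullback.snd (X ↘ Spec (CommRingCat.of k)) q) t := by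
  refine IsPullback.of_right ?_ (pullback.lift_snd _ _ _) (IsPullback.of_hasPullback _ q)
  have h1 : Pic13.sliceAt k X q t ht ≫ pullback.fst _ _ = 𝟙 X := pullback.lift_fst _ _ _
  rw [h1, ht]
  exact IsPullback.of_horiz_isIso ⟨by simp⟩

omit [IsProper (X ↘ Spec (CommRingCat.of k))] in
theorem nonempty_slice_iso {T : Scheme.{u}} (q : T ⟶ Spec (CommRingCat.of k))
    (t : Spec (CommRingCat.of k) ⟶ T) (ht : t ≫ q = 𝟙 _) (F : X.Modules)
    (M : (Pic13.prodK k X q).Modules) :
    Nonempty ((Scheme.Modules.pullback (Pic13.sliceAt k X q t ht)).obj (CohB1.tensorMod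
        ((Scheme.Modules.pullback (pullback.fst (X ↘ Spec (CommRingCat.of k)) q)).obj F) M) ≅
      CohB1.tensorMod F (Pic13.fibreMod k X q t ht M)) := by
  have h1 : Pic13.sliceAt k X q t ht ≫ pullback.fst _ _ = 𝟙 X := pullback.lift_fst _ _ _
  exact ⟨KFlat.PullTensor.pullTensorIso _ _ M ≪≫ ProjTwist.tensCongr
    ((Scheme.Modules.pullbackComp _ _).app F ≪≫ (Scheme.Modules.pullbackCongr h1).app F ≪≫
      (Scheme.Modules.pullbackId X).app F) (Iso.refl _)⟩

/-- `χ(F ⊗ M_t)` does not depend on the rational point `t` of a connected base. -/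
theorem euler_fibreMod_eq {T : Scheme.{u}} (q : T ⟶ Spec (CommRingCat.of k)) [ConnectedSpace T]
    [LocallyOfFiniteType q] [QuasiCompact q] {M : (Pic13.prodK k X q).Modules} (hM : PicF.IsInvertible M)
    {F : X.Modules} (hF : Coh.IsCoh F) (t t₀ : Spec (CommRingCat.of k) ⟶ T) (ht : t ≫ q = 𝟙 _)
    (ht₀ : t₀ ≫ q = 𝟙 _) :
    Curv2.euler k X (CohB1.tensorMod F (Pic13.fibreMod k X q t ht M)) =
      Curv2.euler k X (CohB1.tensorMod F (Pic13.fibreMod k X q t₀ ht₀ M)) := by
  let f : Pic13.prodK k X q ⟶ T := pullback.snd (X ↘ Spec (CommRingCat.of k)) q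
  let p : Pic13.prodK k X q ⟶ X := pullback.fst (X ↘ Spec (CommRingCat.of k)) q
  haveI : IsProper f := inferInstanceAs (IsProper (pullback.snd _ _))
  haveI : IsLocallyNoetherian T := LocallyOfFiniteType.isLocallyNoetherian q
  haveI : IsLocallyNoetherian (Pic13.prodK k X q) := LocallyOfFiniteType.isLocallyNoetherian f
  haveI : CompactSpace T := QuasiCompact.compactSpace_of_compactSpace q
  haveI : CompactSpace (Pic13.prodK k X q) := QuasiCompact.compactSpace_of_compactSpace f
  haveI : IsNoetherian (Pic13.prodK k X q) := ⟨⟩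
  have hF' : Coh.IsCoh ((Scheme.Modules.pullback p).obj F) := ZClosLib.CohDescent.isCoh_pullback p F hF
  haveI := hF'.1
  have hfl : FlatMod.IsFlatOver f (CohB1.tensorMod ((Scheme.Modules.pullback p).obj F) M) :=
    TwistFlat.isFlatOver_tensor f _ hM fun x => FDesc.BaseChangeStalk.flatOverAt_baseChange
      (IsPullback.of_hasPullback (X ↘ Spec (CommRingCat.of k)) q) x F
      (CMReg.isFlatOver_field (X ↘ Spec (CommRingCat.of k)) F (p x))
  obtain ⟨φ, hlc, hφ⟩ := exists_isLocallyConstant (f := f)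
    (ProjTwist.isCoh_tensor hM hF') hfl
  obtain ⟨e⟩ := nonempty_slice_iso q t ht F M
  obtain ⟨e₀⟩ := nonempty_slice_iso q t₀ ht₀ F M
  let z : Spec (CommRingCat.of k) := Classical.arbitrary _
  have h1 := hφ k t X _ _ (isPullback_slice q t ht) z
  have h2 := hφ k t₀ X _ _ (isPullback_slice q t₀ ht₀) z
  rw [← EulerChar.euler_iso k e, ← EulerChar.euler_iso k e₀]
  exact (h1.trans (hlc.apply_eq_of_preconnectedSpace _ _)).trans h2.symm

/-- Tensoring with a module algebraically equivalent to zero preserves `χ`. -/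
theorem euler_tensor_of_isAlgEquivZero {L : X.Modules} (h : Pic13.IsAlgEquivZero k X L)
    {F : X.Modules} (hF : Coh.IsCoh F) :
    Curv2.euler k X (CohB1.tensorMod F L) = Curv2.euler k X F := by
  obtain ⟨T, q, hT, hft, hqc, M, hM, t, t₀, ht, ht₀, ⟨e⟩, ⟨e₀⟩⟩ := h
  haveI := hT
  haveI := hft
  haveI := hqc
  rw [← EulerChar.euler_iso k (ProjTwist.tensCongr (Iso.refl F) e),
    euler_fibreMod_eq q hM hF t t₀ ht ht₀,
    EulerChar.euler_iso k (ProjTwist.tensCongr (Iso.refl F) e₀ ≪≫ ProjTwist.tensOne F)]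

end Groth.Agent.EulerFam
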