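import Groth.Agent.EulerFam.UnivCoker
import Groth.Agent.ProjTwist.Pn.LinearRes
import Groth.Agent.CMReg.Closed
import Groth.Agent.CMReg.PolyBoundField
import Groth.Agent.ProperFin.FiniteMap
import Groth.Agent.CohDev.TensorCoh

/-!
# Regular modules with given Hilbert polynomial form a bounded family
-/

universe u

open CategoryTheory CategoryTheory.Limits AlgebraicGeometry

set_option linter.style.haveILetI false

noncomputable section

namespace Groth.Agent.EulerFam

open Groth.Agent.ProjTwist.Pn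

variable {k : Type u} [Field k] {n : ℕ}

theorem h0Tw_eq_chi {G : (CohB1.ProjSpace n k).Modules} (hG : Coh.IsCoh G) {m : ℤ}
    (h : Curv2.IsMRegular k n G m) : (h0Tw G m : ℤ) = chi G m := by
  haveI : IsProper (CohB1.ProjSpace n k ↘ Spec (CommRingCat.of k)) :=
    ProjProper.Basic.isProper_toSpec n k
  rw [chi, EulerChar.euler_eq_sum k (t := 1) fun i hi => subsingleton_of_le hG.1 h hi (by omega)]
  simp [h0Tw]

theorem h0Tw_le_of_mono {A B : (CohB1.ProjSpace n k).Modules} (f : A ⟶ B) [Mono f]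
    (hB : Coh.IsCoh B) (d : ℤ) : h0Tw A d ≤ h0Tw B d := by
  haveI := finite_cohomology _ (isCoh_tw hB d) 0
  let S := ShortComplex.mk f (cokernel.π f) (cokernel.condition f)
  have hS : S.ShortExact :=
    { exact := S.exact_of_g_is_cokernel (cokernelIsCokernel f) }
  exact LinearMap.finrank_le_finrank_of_injective
    (f := CurveCoh.mapL k (S.map (twFun n k d)).f 0)
    (CurveCoh.injective_mapL_zero k (shortExact_tw hS d))

variable {X : Scheme.{u}} [X.Over (Spec (CommRingCat.of k))] (i : X ⟶ CohB1.ProjSpace n k)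
  [IsClosedImmersion i]

include i in
/-- A regular module with given `h⁰` is the cokernel of a map of two fixed modules. -/
theorem exists_iso_cokernel {F : X.Modules} (hF : Coh.IsCoh F) {m : ℤ}
    (h : Pic13.IsMRegular k i F m) {p : ℕ} (hp : (p : ℤ) = chi ((Coh.push i).obj F) m) :
    ∃ φ : (Scheme.Modules.pullback i).obj (∐ fun _ : Fin (h0Tw (∐ fun _ : Fin p =>
        Twist.twistProjSpace n k (-m)) (m + 1)) => Twist.twistProjSpace n k (-(m + 1))) ⟶
      (Scheme.Modules.pullback i).obj (∐ fun _ : Fin p => Twist.twistProjSpace n k (-m)),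
      Nonempty (cokernel φ ≅ F) := by
  haveI : Coh.IsQCoh F := hF.1
  let G := (Coh.push i).obj F
  have hG : Coh.IsCoh G := ProperFin.isCoh_push_of_isFinite i F hF
  have hreg : Curv2.IsMRegular k n G m := CMReg.isMRegular_push i h
  obtain ⟨b, φ, hφ, hK, -, hb⟩ := exists_min_epi_of_isMRegular hG hreg
  obtain rfl : b = p := by
    exact_mod_cast ((congrArg Nat.cast hb).trans (h0Tw_eq_chi hG hreg)).trans hp.symm
  have hsum : Coh.IsCoh (∐ fun _ : Fin b => Twist.twistProjSpace n k (-m)) :=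
    isCoh_sum _ fun _ => isCoh_twistProjSpace n k _
  haveI := isLocallyNoetherian_projSpace n k
  have hKc : Coh.IsCoh (kernel φ) := CohDev.isCoh_kernel φ hsum hG.1
  obtain ⟨c, θ, hθ, -, -, hc⟩ := exists_min_epi_of_isMRegular hKc hK
  have hle : c ≤ h0Tw (∐ fun _ : Fin b => Twist.twistProjSpace n k (-m)) (m + 1) := by
    rw [hc]
    exact h0Tw_le_of_mono (kernel.ι φ) hsum (m + 1)
  let θ' : (∐ fun _ : Fin (h0Tw (∐ fun _ : Fin b => Twist.twistProjSpace n k (-m)) (m + 1)) =>
      Twist.twistProjSpace n k (-(m + 1))) ⟶ kernel φ :=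
    Sigma.desc fun j => if hj : (j : ℕ) < c then
      Sigma.ι (fun _ : Fin c => Twist.twistProjSpace n k (-(m + 1))) ⟨j, hj⟩ ≫ θ else 0
  haveI hθ' : Epi θ' := ⟨fun u v huv => by
    refine (cancel_epi θ).1 (Sigma.hom_ext _ _ fun l => ?_)
    have h1 := congrArg
      (fun w => Sigma.ι (fun _ : Fin (h0Tw (∐ fun _ : Fin b => Twist.twistProjSpace n k (-m)) (m + 1)) =>
        Twist.twistProjSpace n k (-(m + 1))) (Fin.castLE hle l) ≫ w) huv
    simp only [θ', Sigma.ι_desc_assoc, Fin.val_castLE, l.2, dif_pos, Category.assoc, Fin.eta] at h1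
    exact h1⟩
  refine ⟨(Scheme.Modules.pullback i).map (θ' ≫ kernel.ι φ), ⟨?_⟩⟩
  haveI := hφ
  exact (PreservesCokernel.iso (Scheme.Modules.pullback i) (θ' ≫ kernel.ι φ)).symm ≪≫
    (Scheme.Modules.pullback i).mapIso (cokernelEpiComp θ' (kernel.ι φ) ≪≫
      IsColimit.coconePointUniqueUpToIso (colimit.isColimit _)
        (Abelian.epiIsCokernelOfKernel (KernelFork.ofι (kernel.ι φ) (kernel.condition φ))
          (kernelIsKernel φ))) ≪≫
    @asIso _ _ _ _ _ (Props.KilledSub.isIso_counit i F)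

end Groth.Agent.EulerFam
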