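import Groth.Agent.EulerFam.AlgEquiv
import Groth.Agent.S1455
import Groth.Agent.RedSub.Basic
import Groth.Agent.MonoVal.Immersion
import Groth.Agent.HomShQC.Basic

/-!
# Euler characteristics in a bounded family take finitely many values
-/

universe u

open CategoryTheory CategoryTheory.Limits AlgebraicGeometry

set_option linter.style.haveILetI false

noncomputable section

namespace Groth.Agent.EulerFam

variable {k : Type u} [Field k] {X : Scheme.{u}} [X.Over (Spec (CommRingCat.of k))]
  [IsProper (X ↘ Spec (CommRingCat.of k))]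

theorem finite_euler {T : Scheme.{u}} (q : T ⟶ Spec (CommRingCat.of k))
    [LocallyOfFiniteType q] [QuasiCompact q] {G : (Pic13.prodK k X q).Modules} (hG : Coh.IsCoh G) :
    ∃ s : Finset ℤ, ∀ (t : Spec (CommRingCat.of k) ⟶ T) (ht : t ≫ q = 𝟙 _),
      Curv2.euler k X (Pic13.fibreMod k X q t ht G) ∈ s := by
  classical
  let f : Pic13.prodK k X q ⟶ T := pullback.snd (X ↘ Spec (CommRingCat.of k)) q
  haveI : IsProper f := inferInstanceAs (IsProper (pullback.snd _ _))
  haveI : IsLocallyNoetherian T := LocallyOfFiniteType.isLocallyNoetherian q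
  haveI : IsLocallyNoetherian (Pic13.prodK k X q) := LocallyOfFiniteType.isLocallyNoetherian f
  haveI : CompactSpace T := QuasiCompact.compactSpace_of_compactSpace q
  haveI : IsNoetherian T := ⟨⟩
  haveI : LocallyOfFinitePresentation f := MonoVal.locallyOfFinitePresentation_of_lft f
  obtain ⟨n, I, hmono, htop, h0, -, hflat⟩ := S1455.result f G hG.1 (HomShQC.isFP_of_isCoh G hG)
  let Z : ∀ i : Fin n, Scheme.{u} := fun i =>
    (((I i.castSucc).subschemeι ⁻¹ᵁ (I i.succ).support.compl : (I i.castSucc).subscheme.Opens))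
  let j : ∀ i : Fin n, Z i ⟶ T := fun i =>
    ((I i.castSucc).subschemeι ⁻¹ᵁ (I i.succ).support.compl).ι ≫ (I i.castSucc).subschemeι
  haveI : ∀ i, IsImmersion (j i) := fun i => by
    dsimp only [j]; infer_instance
  haveI : ∀ i, IsLocallyNoetherian (Z i) := fun i =>
    LocallyOfFiniteType.isLocallyNoetherian (j i)
  have hcZ : ∀ i, CompactSpace (Z i) := fun i =>
    haveI : TopologicalSpace.NoetherianSpace (Z i) := (j i).isEmbedding.isInducing.noetherianSpace
    inferInstance
  have hcoh : ∀ i, Coh.IsCoh ((Scheme.Modules.pullback (pullback.fst f (j i))).obj G) :=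
    fun i => ZClosLib.CohDescent.isCoh_pullback _ G hG
  choose φ hlc hφ using fun i => exists_isLocallyConstant (f := pullback.snd f (j i)) (hcoh i) (hflat i)
  have hfin : (⋃ i, Set.range (φ i)).Finite := Set.finite_iUnion fun i =>
    haveI := hcZ i
    (hlc i).range_finite
  refine ⟨hfin.toFinset, fun t ht => ?_⟩
  let z : Spec (CommRingCat.of k) := Classical.arbitrary _
  -- the stratum containing the point
  obtain ⟨i, hi1, hi2⟩ : ∃ i : Fin n, t.base z ∈ (I i.castSucc).support ∧
      t.base z ∉ (I i.succ).support := by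
    by_contra hno
    push Not at hno
    have : ∀ a : Fin (n + 1), t.base z ∈ (I a).support := fun a => by
      induction a using Fin.induction with
      | zero => rw [← SetLike.mem_coe, h0]; trivial
      | succ a ih => exact hno a ih
    have h1 := this (Fin.last n)
    rw [htop, Scheme.IdealSheafData.support_top] at h1
    exact h1.elim
  have hr : Set.range t ⊆ Set.range (j i) := by
    rintro _ ⟨w, rfl⟩
    rw [Subsingleton.elim w z]
    have hs : t.base z ∈ Set.range (I i.castSucc).subschemeι := by
      rw [Scheme.IdealSheafData.range_subschemeι]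
      exact hi1
    obtain ⟨y, hy⟩ := hs
    refine ⟨⟨y, ?_⟩, hy⟩
    change (I i.castSucc).subschemeι y ∈ ((I i.succ).support.compl : T.Opens)
    rw [hy]
    exact hi2
  obtain ⟨g, hg⟩ := RedSub.exists_lift (j i) t hr
  have hsl : Pic13.sliceAt k X q t ht ≫ f = (X ↘ Spec (CommRingCat.of k)) ≫ g ≫ j i := by
    rw [hg]
    exact pullback.lift_snd _ _ _
  let σ : X ⟶ pullback f (j i) := pullback.lift (Pic13.sliceAt k X q t ht)
    ((X ↘ Spec (CommRingCat.of k)) ≫ g) (by rw [hsl, Category.assoc])
  have sq : IsPullback σ (X ↘ Spec (CommRingCat.of k)) (pullback.snd f (j i)) g := by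
    refine IsPullback.of_right ?_ (pullback.lift_snd _ _ _) (IsPullback.of_hasPullback f (j i))
    rw [show σ ≫ pullback.fst f (j i) = Pic13.sliceAt k X q t ht from pullback.lift_fst _ _ _, hg]
    exact isPullback_slice q t ht
  have e : (Scheme.Modules.pullback σ).obj ((Scheme.Modules.pullback (pullback.fst f (j i))).obj G) ≅
      Pic13.fibreMod k X q t ht G :=
    (Scheme.Modules.pullbackComp _ _).app G ≪≫
      (Scheme.Modules.pullbackCongr (pullback.lift_fst _ _ _)).app G
  rw [← EulerChar.euler_iso k e, Set.Finite.mem_toFinset]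
  exact Set.mem_iUnion.2 ⟨i, _, (hφ i k g X σ _ sq z).symm⟩

end Groth.Agent.EulerFam
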