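import Groth.Agent.KSMod.EndFinite
import Groth.Agent.CohDev.Coh
import Groth.Agent.KFlat.PullTensor
import Groth.Agent.QCoh.Exact
import Groth.Agent.ZClosLib.CohDescent
import Groth.Prelude.Def_Pic13
import Mathlib.RingTheory.MvPolynomial.Basic
import Mathlib.AlgebraicGeometry.Morphisms.FiniteType

/-!
# Cokernels of maps between two fixed coherent modules form a bounded family
-/

universe u

open CategoryTheory CategoryTheory.Limits AlgebraicGeometry Opposite TopologicalSpace

set_option linter.style.haveILetI false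

noncomputable section

namespace Groth.Agent.EulerFam

open KSMod

variable {X Y : Scheme.{u}}

/-- Pullback of multiplication by a global function. -/
theorem pullback_map_scal (g : X ⟶ Y) (M : Y.Modules) (r : Γ(Y, ⊤)) :
    (Scheme.Modules.pullback g).map (scal M r) =
      scal ((Scheme.Modules.pullback g).obj M) (g.appTop r) := by
  refine ((Scheme.Modules.pullbackPushforwardAdjunction g).homEquiv _ _).injective ?_
  rw [Adjunction.homEquiv_unit, Adjunction.homEquiv_unit]
  have hn := (Scheme.Modules.pullbackPushforwardAdjunction g).unit.naturality (scal M r)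
  refine hn.symm.trans ?_
  refine Scheme.Modules.hom_ext _ _ fun U => ?_
  ext (m : Γ(M, U))
  change KFlat.PullTensor.ηS g M U (rtop Y U r • m) =
    (scal ((Scheme.Modules.pullback g).obj M) (g.appTop r)).app (g ⁻¹ᵁ U)
      (KFlat.PullTensor.ηS g M U m)
  rw [scal_app, KFlat.PullTensor.ηS_smul]
  congr 1
  exact ConcreteCategory.congr_hom (g.naturality (homOfLE (le_top : U ≤ ⊤)).op) r

variable {k : Type u} [Field k] [X.Over (Spec (CommRingCat.of k))]
  [IsProper (X ↘ Spec (CommRingCat.of k))]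

/-- Finitely many morphisms span all morphisms between coherent modules. -/
theorem exists_hom_span {A B : X.Modules} (hA : Coh.IsCoh A) (hB : Coh.IsCoh B) :
    ∃ (N : ℕ) (α : Fin N → (A ⟶ B)), ∀ φ : A ⟶ B, ∃ c : Fin N → k,
      φ = ∑ j, α j ≫ scal B (Coh.toGlobal (X ↘ Spec (CommRingCat.of k)) (c j)) := by
  letI := endAlgebra k (X ↘ Spec (CommRingCat.of k)) (A ⊞ B)
  haveI := finite_end k (X ↘ Spec (CommRingCat.of k)) (A ⊞ B) (CohDev.isCoh_biprod hA hB)
  obtain ⟨N, e, he⟩ := Module.Finite.exists_fin (R := k) (M := End (A ⊞ B))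
  refine ⟨N, fun j => biprod.inl ≫ End.asHom (e j) ≫ biprod.snd, fun φ => ?_⟩
  have hφ : End.of (biprod.fst ≫ φ ≫ biprod.inr : A ⊞ B ⟶ A ⊞ B) ∈ Submodule.span k (Set.range e) := by
    rw [he]; trivial
  obtain ⟨c, hc⟩ := (Submodule.mem_span_range_iff_exists_fun k).1 hφ
  refine ⟨c, ?_⟩
  have h : (biprod.fst ≫ φ ≫ biprod.inr : A ⊞ B ⟶ A ⊞ B) =
      ∑ j, End.asHom (e j) ≫ scal (A ⊞ B) (Coh.toGlobal (X ↘ Spec (CommRingCat.of k)) (c j)) :=
    hc.symm
  calc φ = biprod.inl ≫ (biprod.fst ≫ φ ≫ biprod.inr) ≫ biprod.snd := by simp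
    _ = _ := by
      rw [h, Preadditive.sum_comp, Preadditive.comp_sum]
      refine Finset.sum_congr rfl fun j _ => ?_
      simp only [Category.assoc]
      rw [scal_nat]

/-- The cokernels of the `k`-combinations of finitely many morphisms form a bounded family. -/
theorem exists_family_cokernel {A B : X.Modules} (hA : Coh.IsCoh A) (hB : Coh.IsCoh B) {N : ℕ}
    (α : Fin N → (A ⟶ B)) :
    ∃ (T : Scheme.{u}) (q : T ⟶ Spec (CommRingCat.of k)), LocallyOfFiniteType q ∧ QuasiCompact q ∧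
      ∃ F : (Pic13.prodK k X q).Modules, Coh.IsCoh F ∧ ∀ c : Fin N → k,
        ∃ (t : Spec (CommRingCat.of k) ⟶ T) (ht : t ≫ q = 𝟙 _),
          Nonempty (Pic13.fibreMod k X q t ht F ≅
            cokernel (∑ j, α j ≫ scal B (Coh.toGlobal (X ↘ Spec (CommRingCat.of k)) (c j)))) := by
  let R := MvPolynomial (Fin N) k
  let q : Spec (CommRingCat.of R) ⟶ Spec (CommRingCat.of k) :=
    Spec.map (CommRingCat.ofHom (algebraMap k R))
  let p : Pic13.prodK k X q ⟶ X := pullback.fst (X ↘ Spec (CommRingCat.of k)) q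
  let f : Pic13.prodK k X q ⟶ Spec (CommRingCat.of R) := pullback.snd (X ↘ Spec (CommRingCat.of k)) q
  let x : Fin N → Γ(Pic13.prodK k X q, ⊤) := fun j => Coh.toGlobal f (MvPolynomial.X j)
  have hft : LocallyOfFiniteType q := by
    rw [HasRingHomProperty.Spec_iff (P := @LocallyOfFiniteType)]
    exact RingHom.finiteType_algebraMap.2 inferInstance
  let U := ∑ j, (Scheme.Modules.pullback p).map (α j) ≫
    scal ((Scheme.Modules.pullback p).obj B) (x j)
  refine ⟨_, q, hft, inferInstance, cokernel U, CohDev.isCoh_cokernel U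
    (ZClosLib.CohDescent.isCoh_pullback p A hA).1 (ZClosLib.CohDescent.isCoh_pullback p B hB),
    fun c => ?_⟩
  let t : Spec (CommRingCat.of k) ⟶ Spec (CommRingCat.of R) :=
    Spec.map (CommRingCat.ofHom (MvPolynomial.eval c))
  have ht : t ≫ q = 𝟙 _ := by
    rw [← Spec.map_comp, ← Spec.map_id]
    congr 1
    ext a
    exact MvPolynomial.eval_C a
  refine ⟨t, ht, ?_⟩
  let σ := Pic13.sliceAt k X q t ht
  have hσp : σ ≫ p = 𝟙 X := pullback.lift_fst _ _ _
  have hσx : ∀ j, σ.appTop (x j) = Coh.toGlobal (X ↘ Spec (CommRingCat.of k)) (c j) := fun j => by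
    show (f.appTop ≫ σ.appTop) ((Scheme.ΓSpecIso (CommRingCat.of R)).inv (MvPolynomial.X j)) = _
    rw [← Scheme.Hom.comp_appTop, show σ ≫ f = (X ↘ Spec (CommRingCat.of k)) ≫ t from
      pullback.lift_snd _ _ _, Scheme.Hom.comp_appTop]
    show (X ↘ Spec (CommRingCat.of k)).appTop (t.appTop _) = (X ↘ Spec (CommRingCat.of k)).appTop _
    congr 1
    refine (ConcreteCategory.congr_hom
      (Scheme.ΓSpecIso_inv_naturality (CommRingCat.ofHom (MvPolynomial.eval c))).symm
      (MvPolynomial.X j)).trans ?_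
    exact congrArg (Scheme.ΓSpecIso (CommRingCat.of k)).inv (MvPolynomial.eval_X j)
  let ι := Scheme.Modules.pullbackComp σ p ≪≫ Scheme.Modules.pullbackCongr hσp ≪≫
    Scheme.Modules.pullbackId X
  refine ⟨PreservesCokernel.iso (Scheme.Modules.pullback σ) U ≪≫
    cokernel.mapIso _ _ (ι.app A) (ι.app B) ?_⟩
  simp only [U, Functor.map_sum, Functor.map_comp, Preadditive.sum_comp, Preadditive.comp_sum]
  refine Finset.sum_congr rfl fun j _ => ?_
  rw [pullback_map_scal, hσx, Category.assoc, scal_nat, ← Category.assoc, ← Category.assoc]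
  congr 1
  exact ι.hom.naturality (α j)

/-- The cokernels of all morphisms between two coherent modules form a bounded family. -/
theorem isBounded_cokernel {A B : X.Modules} (hA : Coh.IsCoh A) (hB : Coh.IsCoh B) :
    Pic13.IsBounded k X (fun G => ∃ φ : A ⟶ B, Nonempty (cokernel φ ≅ G)) := by
  obtain ⟨N, α, hα⟩ := exists_hom_span (k := k) hA hB
  obtain ⟨T, q, hft, hqc, F, hF, hfib⟩ := exists_family_cokernel (k := k) hA hB α
  refine ⟨T, q, hft, hqc, F, hF, fun G hG => ?_⟩
  obtain ⟨φ, ⟨e⟩⟩ := hG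
  obtain ⟨c, rfl⟩ := hα φ
  obtain ⟨t, ht, ⟨e'⟩⟩ := hfib c
  exact ⟨t, ht, ⟨e' ≪≫ e⟩⟩

end Groth.Agent.EulerFam
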