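import Groth.Agent.CBC.Window
import Mathlib.RingTheory.Flat.Basic
import Mathlib.RingTheory.Flat.Stability
import Mathlib.LinearAlgebra.TensorProduct.RightExactness
import Mathlib.LinearAlgebra.TensorProduct.Tower
import Mathlib.LinearAlgebra.FiniteDimensional.Lemmas
import Mathlib.LinearAlgebra.TensorProduct.Pi

/-!
# Euler characteristic of the fibres of a complex of flat modules

For a complex of flat modules over a Noetherian ring with finite cohomology vanishing universally from
some degree on, the Euler characteristic of the fibres at field-valued points is the rank of a finite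
projective module minus a constant.
-/

universe u

set_option linter.style.haveILetI false

open TensorProduct Function LinearMap

namespace Groth.Agent.EulerFam

open Groth.Agent.CBC

variable {A : Type u} [CommRing A]

theorem node_exact {K : SCx A} {j : ℕ} (N : K.Node (j + 1)) (N' : K.Node j)
    (ψ : (Fin N'.m → A) →ₗ[A] N.P) (hP : N'.P = LinearMap.ker (N.D ψ)) :
    Exact N'.u (Submodule.mkQ (((K.B₀ (j + 1)).prod ⊥).comap N.P.subtype) ∘ₗ ψ) := by
  intro c
  constructor
  · intro hc
    obtain ⟨⟨x, hx⟩, h2⟩ := (Submodule.Quotient.mk_eq_zero _).1 hc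
    have hmem : (-x, c) ∈ N'.P := by
      rw [hP, LinearMap.mem_ker]
      refine Subtype.ext ?_
      change LinearMap.inl A _ _ (K.d j (-x)) + (ψ c).1 = 0
      refine Prod.ext ?_ ?_
      · change K.d j (-x) + (ψ c).1.1 = 0
        rw [map_neg, hx]
        exact neg_add_cancel _
      · change (0 : Fin N.m → A) + (ψ c).1.2 = 0
        rw [zero_add]
        exact (Submodule.mem_bot A).1 h2
    exact ⟨Submodule.Quotient.mk ⟨(-x, c), hmem⟩, rfl⟩
  · rintro ⟨g, rfl⟩
    obtain ⟨⟨⟨x, c⟩, hw⟩, rfl⟩ := Submodule.Quotient.mk_surjective _ g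
    change Submodule.Quotient.mk (ψ c) = 0
    rw [hP, LinearMap.mem_ker] at hw
    refine (Submodule.Quotient.mk_eq_zero _).2 ⟨⟨-x, ?_⟩, ?_⟩
    · have h1 : K.d j x + (ψ c).1.1 = 0 := congrArg (fun w : N.P => w.1.1) hw
      rw [map_neg]
      exact (eq_neg_of_add_eq_zero_right h1).symm
    · have h1 : (0 : Fin N.m → A) + (ψ c).1.2 = 0 := congrArg (fun w : N.P => w.1.2) hw
      rw [zero_add] at h1
      exact (Submodule.mem_bot A).2 h1

theorem finrank_ker_baseChange {G G' : Type u} [AddCommGroup G] [Module A G] [AddCommGroup G']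
    [Module A G'] [Module.Finite A G'] {m : ℕ} {u : G' →ₗ[A] (Fin m → A)} {π : (Fin m → A) →ₗ[A] G}
    (hex : Exact u π) (hπ : Surjective π) (R : Type u) [Field R] [Algebra A R] :
    (Module.finrank R (LinearMap.ker (u.baseChange R)) : ℤ) =
      Module.finrank R (R ⊗[A] G') - m + Module.finrank R (R ⊗[A] G) := by
  have hm : Module.finrank R (R ⊗[A] (Fin m → A)) = m := by
    rw [(TensorProduct.piScalarRight A R R (Fin m)).finrank_eq, Module.finrank_fin_fun]
  have e := lTensor_exact R hex hπ
  have hrange : LinearMap.range (u.baseChange R) = LinearMap.ker (π.baseChange R) := by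
    ext y
    exact (e y).symm
  have hsur : Surjective (π.baseChange R) := LinearMap.lTensor_surjective R hπ
  have h1 := LinearMap.finrank_range_add_finrank_ker (u.baseChange R)
  have h2 := LinearMap.finrank_range_add_finrank_ker (π.baseChange R)
  rw [LinearMap.range_eq_top.2 hsur, finrank_top, hm, ← hrange] at h2
  omega

variable [IsNoetherianRing A] (K : SCx A) (hX : ∀ n, Module.Flat A (K.X n))
  (hH : ∀ n, Module.Finite A (K.H₀ n)) {r : ℕ}
  (hr : ∀ (M : Type u) [AddCommGroup M] [Module A M] (n : ℕ), r ≤ n → Subsingleton (K.H M n))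

include hX hH hr

theorem exists_node_euler {j : ℕ} (hj : j ≤ r + 1) : ∃ (N : K.Node j) (c : ℤ),
    ∀ (R : Type u) [Field R] [Algebra A R] (h : ℕ → ℕ),
      (∀ i (w : K.Win i), h i = Module.finrank R (LinearMap.ker (w.u.baseChange R))) →
      ∑ i ∈ Finset.Ico j (r + 1), (-1 : ℤ) ^ i * (h i : ℤ) =
        (-1 : ℤ) ^ j * (Module.finrank R (R ⊗[A] N.G) : ℤ) - c := by
  induction hj using Nat.decreasingInduction with
  | self =>
    haveI := hX (r + 1)
    refine ⟨K.topNode hr, 0, fun R _ _ h _ => ?_⟩
    haveI : Subsingleton (K.topNode hr).G := ⟨fun a b => by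
      obtain ⟨a, rfl⟩ := Submodule.Quotient.mk_surjective _ a
      obtain ⟨b, rfl⟩ := Submodule.Quotient.mk_surjective _ b
      exact (Submodule.Quotient.eq _).2 (a - b).2⟩
    rw [Module.finrank_zero_of_subsingleton]
    simp
  | of_succ j hj ih =>
    obtain ⟨N, c, hc⟩ := ih
    obtain ⟨N', ψ, hψ, hP⟩ := K.exists_next hX hH N
    refine ⟨N', c + (-1 : ℤ) ^ j * (N'.m : ℤ), fun R _ _ h hh => ?_⟩
    haveI := N'.fin
    have hk := finrank_ker_baseChange (node_exact N N' ψ hP) hψ R
    rw [Finset.sum_eq_sum_Ico_succ_bot (by omega : j < r + 1), hc R h hh, hh j N'.win, pow_succ]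
    rw [show (Module.finrank R (LinearMap.ker (N'.win.u.baseChange R)) : ℤ) =
      Module.finrank R (LinearMap.ker (N'.u.baseChange R)) from rfl, hk]
    ring

/-- The fibrewise Euler characteristic is the rank of a finite projective module minus a constant. -/
theorem exists_euler_formula : ∃ (G : Type u) (_ : AddCommGroup G) (_ : Module A G),
    Module.Projective A G ∧ Module.Finite A G ∧ ∃ c : ℤ,
    ∀ (R : Type u) [Field R] [Algebra A R] (h : ℕ → ℕ),
      (∀ i (w : K.Win i), h i = Module.finrank R (LinearMap.ker (w.u.baseChange R))) →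
      ∑ i ∈ Finset.range (r + 1), (-1 : ℤ) ^ i * (h i : ℤ) =
        (Module.finrank R (R ⊗[A] G) : ℤ) - c := by
  obtain ⟨N, c, hc⟩ := exists_node_euler K hX hH hr (Nat.zero_le (r + 1))
  haveI := N.flat
  haveI := N.fin
  have hb : ((K.B₀ 0).prod ⊥).comap N.P.subtype = ⊥ := by
    rw [show K.B₀ 0 = ⊥ from rfl, Submodule.prod_bot, Submodule.comap_bot, Submodule.ker_subtype]
  haveI : Module.Flat A N.G :=
    Module.Flat.of_linearEquiv (Submodule.quotEquivOfEqBot _ hb)
  haveI : Module.FinitePresentation A N.G := Module.finitePresentation_of_finite A N.G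
  refine ⟨N.G, inferInstance, inferInstance, Module.Flat.projective_of_finitePresentation,
    inferInstance, c, fun R _ _ h hh => ?_⟩
  have := hc R h hh
  rwa [pow_zero, one_mul, ← Finset.range_eq_Ico] at this

end Groth.Agent.EulerFam
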