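import Groth.Agent.EulerFam.Bounded
import Groth.Agent.Snapper.Basic
import Groth.Agent.LimTop.TensorQC
import Groth.Agent.PicCl.Basic

/-!
# Intersection numbers in bounded families
-/

universe u

open CategoryTheory CategoryTheory.Limits AlgebraicGeometry

set_option linter.style.haveILetI false

noncomputable section

namespace Groth.Agent.EulerFam

open ProjTwist Snapper

variable {k : Type u} [Field k] {X : Scheme.{u}} [X.Over (Spec (CommRingCat.of k))]
  [IsProper (X ↘ Spec (CommRingCat.of k))]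

omit [X.Over (Spec (CommRingCat.of k))] [IsProper (X ↘ Spec (CommRingCat.of k))] in
theorem isCoh_tensor_coh {A B : X.Modules} (hA : Coh.IsCoh A) (hB : Coh.IsCoh B) :
    Coh.IsCoh (CohB1.tensorMod A B) := by
  haveI := hA.1
  haveI := hA.2
  haveI := hB.1
  haveI := hB.2
  exact ⟨LimTop.TensorQC.isQuasicoherent_tensM A B, LimTop.TensorQC.isFT_tensM A B⟩

/-- The intersection numbers of the fibres of a coherent family are bounded. -/
theorem exists_bound_intE {T : Scheme.{u}} (q : T ⟶ Spec (CommRingCat.of k))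
    [LocallyOfFiniteType q] [QuasiCompact q] {G : (Pic13.prodK k X q).Modules} (hG : Coh.IsCoh G)
    {r : ℕ} {C : Fin r → X.Modules} (hC : ∀ i, PicF.IsInvertible (C i)) :
    ∃ B : ℤ, ∀ (t : Spec (CommRingCat.of k) ⟶ T) (ht : t ≫ q = 𝟙 _),
      |intE k C (Pic13.fibreMod k X q t ht G)| ≤ B := by
  classical
  haveI := EulerChar.isNoetherian k (X := X)
  let p : Pic13.prodK k X q ⟶ X := pullback.fst (X ↘ Spec (CommRingCat.of k)) q
  let A : Finset (Fin r) → X.Modules := fun I => FGA.tensorList ((I.sort (· ≤ ·)).map C)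
  have hA : ∀ I, Coh.IsCoh (A I) := fun I =>
    CohDev.isCoh_of_iso (oneTens _) (isCoh_tensor (isInvertible_tensorList fun N hN => by
      obtain ⟨i, -, rfl⟩ := List.mem_map.1 hN
      exact hC i) (ProperFin.isCoh_structureModule X))
  choose s hs using fun I => finite_euler q
    (isCoh_tensor_coh (ZClosLib.CohDescent.isCoh_pullback p (A I) (hA I)) hG)
  refine ⟨∑ I, ∑ v ∈ s I, |v|, fun t ht => (Finset.abs_sum_le_sum_abs _ _).trans ?_⟩
  refine Finset.sum_le_sum fun I _ => ?_
  obtain ⟨e⟩ := nonempty_slice_iso q t ht (A I) G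
  rw [abs_mul, abs_pow, abs_neg, abs_one, one_pow, one_mul, ← EulerChar.euler_iso k e]
  exact Finset.single_le_sum (f := fun v : ℤ => |v|) (fun v _ => abs_nonneg v) (hs I t ht)

/-- `∫ c₁(L) M · G = intE M (L ⊗ G) - intE M G` in the top degree. -/
theorem intE_cons_shift {r : ℕ} {M : Fin r → X.Modules} (hM : ∀ i, PicF.IsInvertible (M i))
    {L L' : X.Modules} (hL : PicF.IsInvertible L) (hL' : PicF.IsInvertible L')
    (e : CohB1.tensorMod L L' ≅ Coh.structureModule X) {G : X.Modules} (hG : Coh.IsCoh G) :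
    intE k (Fin.cons L' M) (CohB1.tensorMod L G) = intE k M (CohB1.tensorMod L G) - intE k M G := by
  have hLG := isCoh_tensorMod k hL hG
  rw [intE_cons k hM hL' hLG, map_sub, intK_kcl k hM hLG,
    intK_kcl k hM (isCoh_tensorMod k hL' hLG)]
  have : intE k M (CohB1.tensorMod L' (CohB1.tensorMod L G)) = intE k M G :=
    Finset.sum_congr rfl fun I _ => congrArg _ (EulerChar.euler_iso k (tensCongr (Iso.refl _)
      ((tensAssoc L' L G).symm ≪≫ tensCongr (tensComm L' L ≪≫ e) (Iso.refl G) ≪≫ oneTens G)))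
  rw [this]
  ring

/-- In the top degree intersection numbers do not change on twisting. -/
theorem intE_twist_top {r : ℕ} {M : Fin r → X.Modules} (hM : ∀ i, PicF.IsInvertible (M i))
    {L G : X.Modules} (hL : PicF.IsInvertible L) (hG : Coh.IsCoh G)
    (hd : topologicalKrullDim ↥(CohB1.support G) ≤ (r : WithBot ℕ∞)) :
    intE k M (CohB1.tensorMod L G) = intE k M G := by
  rw [← sub_eq_zero, ← intK_kcl k hM (isCoh_tensorMod k hL hG), ← intK_kcl k hM hG, ← map_sub]
  have hc := kcl_tens_sub_small k hL hG hd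
  revert hc
  generalize CohDev.kcl (CohB1.tensorMod L G) - CohDev.kcl G = c
  intro hc
  induction hc using AddSubgroup.closure_induction with
  | mem x hx =>
    obtain ⟨H, hH, hHd, rfl⟩ := hx
    rw [intK_kcl k hM hH]
    exact intE_eq_zero k hM hH hHd
  | zero => exact map_zero _
  | add x y _ _ hx hy => rw [map_add, hx, hy, add_zero]
  | neg x _ hx => rw [map_neg, hx, neg_zero]

omit [IsProper (X ↘ Spec (CommRingCat.of k))] in
theorem intE_congr {r : ℕ} (M : Fin r → X.Modules) [IsProper (X ↘ Spec (CommRingCat.of k))]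
    {G G' : X.Modules} (e : G ≅ G') : intE k M G = intE k M G' :=
  Finset.sum_congr rfl fun I _ => congrArg _ (EulerChar.euler_iso k (tensCongr (Iso.refl _) e))

end Groth.Agent.EulerFam
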